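import Mathlib
import Cfsg.Agent.Lib.Glauberman.Step
import Cfsg.Agent.Lib.Char.Galois

/-!
# The cyclic case, assuming Galois invariance of the twisted traces
-/

set_option autoImplicit false

namespace Cfsg.Agent.Lib.Glauberman.CyclicCore

open Module Finset
open Cfsg Cfsg.Agent.Lib.Char.Basic Cfsg.Agent.Lib.Char.Ortho Cfsg.Agent.Lib.Char.Complete
open Cfsg.Agent.Lib.Char.Galois
open Cfsg.Agent.Lib.Glauberman.Twist Cfsg.Agent.Lib.Glauberman.Coset
open Cfsg.Agent.Lib.Glauberman.Fourier Cfsg.Agent.Lib.Glauberman.Step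
open scoped ComplexConjugate

universe u v

section Integrality

variable {N : ℕ} [NeZero N]

theorem e_pow_card (j : ZMod N) : ((e j : ℂ)) ^ N = 1 := by
  rw [← AddChar.map_nsmul_eq_pow]
  simp

theorem e_pow (j : ZMod N) (k : ℕ) : ((e j : ℂ)) ^ k = e (j * (k : ZMod N)) := by
  rw [← AddChar.map_nsmul_eq_pow]
  congr 1
  rw [nsmul_eq_mul]
  ring

/-- A Galois-invariant `ℕ`-combination of roots of unity is an integer. -/
theorem int_of_fixed (m : ZMod N → ℕ)
    (h : ∀ k : ℕ, k.Coprime N → ∑ j : ZMod N, (m j : ℂ) * e (j * (k : ZMod N)) =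
      ∑ j : ZMod N, (m j : ℂ) * e j) :
    ∃ z : ℤ, ∑ j : ZMod N, (m j : ℂ) * e j = z := by
  have hN : N ≠ 0 := NeZero.ne N
  let E : ZMod N → Kn N := fun j => ⟨e j, mem_Kn_of_pow_eq_one hN (e_pow_card j)⟩
  let T : Kn N := ∑ j : ZMod N, (m j : Kn N) * E j
  have hT : (T : ℂ) = ∑ j : ZMod N, (m j : ℂ) * e j := by
    simp [T, E]
  have hfix : ∀ f : Kn N ≃ₐ[ℚ] Kn N, f T = T := by
    intro f
    obtain ⟨k, hk, hkf⟩ := exists_pow_of_algHom N (((Kn N).val.comp f.toAlgHom) : Kn N →ₐ[ℚ] ℂ)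
    apply Subtype.ext
    have h1 : ((f T : Kn N) : ℂ) = ∑ j : ZMod N, (m j : ℂ) * e (j * (k : ZMod N)) := by
      simp only [T, map_sum, map_mul, map_natCast]
      push_cast
      refine Finset.sum_congr rfl fun j _ => ?_
      have h2 := hkf (E j) (Subtype.ext (by simpa [E] using e_pow_card j))
      have h3 : ((f (E j) : Kn N) : ℂ) = (e j : ℂ) ^ k := h2
      rw [h3, e_pow]
    rw [h1, h k hk, hT]
  have hbot : T ∈ (⊥ : IntermediateField ℚ (Kn N)) :=
    (IsGalois.mem_bot_iff_fixed T).mpr hfix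
  obtain ⟨q, hq⟩ := IntermediateField.mem_bot.mp hbot
  have hqT : ((q : ℚ) : ℂ) = ∑ j : ZMod N, (m j : ℂ) * e j := by
    rw [← hT, ← hq]
    simp
  have hint : IsIntegral ℤ (∑ j : ZMod N, (m j : ℂ) * e j) := by
    refine IsIntegral.sum _ fun j _ => IsIntegral.mul (isIntegral_natCast (m j)) ?_
    exact Cfsg.Agent.Lib.Char.Eigen.isIntegral_of_pow_eq_one hN (e_pow_card j)
  rw [← hqT] at hint
  have hint2 : IsIntegral ℤ q := by
    have : (algebraMap ℚ ℂ q) = (q : ℂ) := rfl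
    rw [← this] at hint
    exact (isIntegral_algebraMap_iff (algebraMap ℚ ℂ).injective).mp hint
  obtain ⟨z, hz⟩ := IsIntegrallyClosed.isIntegral_iff.mp hint2
  refine ⟨z, ?_⟩
  rw [← hqT, ← hz]
  simp

end Integrality

section Core

variable {G : Type u} [Group G] [Fintype G]
variable {V : Type v} [AddCommGroup V] [Module ℂ V] [FiniteDimensional ℂ V]
variable {N : ℕ} [NeZero N] {C : Subgroup G} [Fintype C]

theorem pow_val_natCast {A : End ℂ V} (hA : A ^ N = 1) (k : ℕ) : A ^ ((k : ZMod N)).val = A ^ k := by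
  rw [ZMod.val_natCast]
  exact pow_mod_eq hA k

/-- A multiplicity in a twisted trace is a multiplicity in the restriction. -/
theorem mult_ne_zero {ρ : Representation ℂ G V} {A : End ℂ V} (hA : A ^ N = 1)
    (hcomm : ∀ c : C, A * ρ c = ρ c * A) (γ : IrrCharacter C) (k : ℕ)
    (h : classInner (tf ρ C (A ^ k)) (γ : C → ℂ) ≠ 0) :
    classInner (tf ρ C 1) (γ : C → ℂ) ≠ 0 := by
  obtain ⟨m, hm⟩ := exists_coeff (C := C) (ρ := ρ) hA hcomm γ
  intro h0
  apply h
  have h1 := hm 0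
  simp only [ZMod.val_zero, pow_zero, mul_zero, AddChar.map_zero_eq_one, mul_one] at h1
  rw [h0] at h1
  have h2 : ∑ j : ZMod N, m j = 0 := by
    have : ((∑ j : ZMod N, m j : ℕ) : ℂ) = 0 := by
      push_cast
      exact h1.symm
    exact_mod_cast this
  have h3 : ∀ j, m j = 0 := fun j => (Finset.sum_eq_zero_iff.mp h2) j (mem_univ j)
  have h4 := hm (k : ZMod N)
  rw [pow_val_natCast hA] at h4
  rw [h4]
  simp [h3]

/-- The cyclic case, given Galois invariance. -/
theorem cyclic_core {ρ : Representation ℂ G V} (hρ : ρ.IsIrreducible) {σ : MulAut G}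
    (hS : Setup σ N C) (hC : ∀ c : C, σ c = c) {A : End ℂ V} (htw : IsTwist ρ σ A)
    (hA : A ^ N = 1) (hgal : ∀ k : ℕ, k.Coprime N → tf ρ C (A ^ k) = tf ρ C A) :
    ∃ (β : IrrCharacter C) (ε : ℤ), (ε = 1 ∨ ε = -1) ∧
      tf ρ C A = fun c => (ε : ℂ) * (β : C → ℂ) c := by
  classical
  have := finite_irrCharacter (G := C)
  letI := Fintype.ofFinite (IrrCharacter C)
  have hcomm : ∀ c : C, A * ρ c = ρ c * A := fun c => by
    have := htw c
    rwa [hC c] at this
  have hcf : IsClassFunction C (tf ρ C A) := by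
    intro c c'
    have h1 := isClassFunction_of_isCharacter (isCharacter_of_rep (repX ρ C A hA hcomm))
      (c, Multiplicative.ofAdd (1 : ZMod N)) (c', 1)
    have h2 := pow_val_natCast (N := N) hA 1
    rw [pow_one, Nat.cast_one] at h2
    simpa [repX_character, h2] using h1
  -- integrality of the coefficients
  have hint : ∀ γ : IrrCharacter C, ∃ z : ℤ, classInner (tf ρ C A) (γ : C → ℂ) = z := by
    intro γ
    obtain ⟨m, hm⟩ := exists_coeff (C := C) (ρ := ρ) hA hcomm γ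
    have h1 : ∀ k : ℕ, classInner (tf ρ C (A ^ k)) (γ : C → ℂ) =
        ∑ j : ZMod N, (m j : ℂ) * e (j * (k : ZMod N)) := by
      intro k
      rw [← hm, pow_val_natCast hA]
    have h2 := h1 1
    rw [pow_one, Nat.cast_one] at h2
    simp only [mul_one] at h2
    rw [h2]
    apply int_of_fixed
    intro k hk
    rw [← h1, hgal k hk, h2]
  choose z hz using hint
  -- Parseval
  have hnorm := classInner_tf_self hρ hS htw hA
  rw [classInner_eq_sum hcf] at hnorm
  have hsum : ∑ γ : IrrCharacter C, (z γ) ^ 2 = 1 := by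
    have h1 : ((∑ γ : IrrCharacter C, (z γ) ^ 2 : ℤ) : ℂ) = ((1 : ℤ) : ℂ) := by
      push_cast
      rw [← hnorm]
      refine Finset.sum_congr rfl fun γ _ => ?_
      rw [hz γ, map_intCast, sq]
    exact_mod_cast h1
  obtain ⟨β, hβ⟩ : ∃ β, z β ≠ 0 := by
    by_contra hcon
    push Not at hcon
    simp [hcon] at hsum
  have hβ2 : 1 ≤ (z β) ^ 2 := by
    have := sq_pos_of_ne_zero hβ
    omega
  have hrest : ∑ γ ∈ univ.erase β, (z γ) ^ 2 = 1 - (z β) ^ 2 := by
    rw [← hsum, ← Finset.add_sum_erase _ _ (mem_univ β)]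
    ring
  have hrest0 : 0 ≤ ∑ γ ∈ univ.erase β, (z γ) ^ 2 := Finset.sum_nonneg fun γ _ => sq_nonneg _
  have hβ1 : (z β) ^ 2 = 1 := by omega
  have hrest1 : ∑ γ ∈ univ.erase β, (z γ) ^ 2 = 0 := by omega
  have hzero : ∀ γ, γ ≠ β → z γ = 0 := by
    intro γ hγ
    have := (Finset.sum_eq_zero_iff_of_nonneg (fun γ _ => sq_nonneg (z γ))).mp hrest1 γ
      (Finset.mem_erase.mpr ⟨hγ, mem_univ _⟩)
    exact pow_eq_zero_iff (two_ne_zero) |>.mp this
  refine ⟨β, z β, ?_, ?_⟩
  · have h1 : (z β - 1) * (z β + 1) = 0 := by nlinarith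
    rcases mul_eq_zero.mp h1 with h2 | h2
    · left; omega
    · right; omega
  · have hexp := classFunction_eq_sum hcf
    funext c
    rw [hexp]
    simp only [Finset.sum_apply, Pi.smul_apply, smul_eq_mul, hz]
    rw [Finset.sum_eq_single β]
    · intro γ _ hγ
      rw [hzero γ hγ]
      simp
    · intro h; exact absurd (mem_univ _) h

end Core

end Cfsg.Agent.Lib.Glauberman.CyclicCore
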