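import Mathlib
import Cfsg.Agent.Lib.Glauberman.CyclicCore
import Cfsg.Agent.Lib.Glauberman.Conj
import Cfsg.Agent.Lib.Coprime.SchurZassenhaus
import Cfsg.Agent.Lib.OddChar.GaloisConj
import Cfsg.Agent.Lib.CharDeep.Det
import Cfsg.Agent.S0867

/-!
# Canonical extensions under a coprime cyclic action
-/

set_option autoImplicit false

namespace Cfsg.Agent.Lib.Glauberman.Canonical

open Module Finset
open Cfsg Cfsg.Agent.Lib.Char.Basic Cfsg.Agent.Lib.Char.Ortho Cfsg.Agent.Lib.Char.Complete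
open Cfsg.Agent.Lib.Char.Conj
open Cfsg.Agent.Lib.Glauberman.Twist Cfsg.Agent.Lib.Glauberman.Coset
open Cfsg.Agent.Lib.Glauberman.Fourier Cfsg.Agent.Lib.Glauberman.Step
open Cfsg.Agent.Lib.Glauberman.CyclicCore Cfsg.Agent.Lib.Glauberman.ConjAct
open scoped ComplexConjugate

universe u

section RingHom

variable {X : Type u} [Group X] [Finite X]

/-- The determinantal character of a Galois conjugate. -/
theorem detChar_comp_ringHom (f : ℂ →+* ℂ) {χ : X → ℂ} (hχ : IsCharacter X χ) (g : X) :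
    detChar (f ∘ χ) g = f (detChar χ g) := by
  obtain ⟨n, ρ, rfl⟩ := hχ
  let ρ' : Representation ℂ X (Fin n → ℂ) :=
      { toFun := fun g => Matrix.toLin' ((LinearMap.toMatrix' (ρ g)).map f)
        map_one' := by
          simp only [map_one]
          ext i j
          simp [LinearMap.toMatrix'_one]
        map_mul' := by
          intro a b
          rw [map_mul]
          have h1 : LinearMap.toMatrix' (ρ a * ρ b) = LinearMap.toMatrix' (ρ a) * LinearMap.toMatrix' (ρ b) :=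
            LinearMap.toMatrix'_comp _ _
          rw [h1, Matrix.map_mul, Matrix.toLin'_mul]
          rfl }
  have h1 : f ∘ ρ.character = ρ'.character := by
    funext g
    simp only [Function.comp, Representation.character]
    change f (LinearMap.trace ℂ _ (ρ g)) = LinearMap.trace ℂ _ (Matrix.toLin' ((LinearMap.toMatrix' (ρ g)).map f))
    rw [Matrix.trace_toLin'_eq]
    have h2 : LinearMap.trace ℂ _ (ρ g) = Matrix.trace (LinearMap.toMatrix' (ρ g)) := by
      rw [← Matrix.trace_toLin'_eq (LinearMap.toMatrix' (ρ g))]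
      simp
    rw [h2]
    simp [Matrix.trace, map_sum]
  rw [h1, Cfsg.Agent.Lib.CharDeep.Det.detChar_character, Cfsg.Agent.Lib.CharDeep.Det.detChar_character]
  have h3 : ρ' g = Matrix.toLin' ((LinearMap.toMatrix' (ρ g)).map f) := rfl
  rw [h3, LinearMap.det_toLin', ← LinearMap.det_toMatrix']
  exact (RingHom.map_det f _).symm

theorem detOrder_comp_ringHom (f : ℂ ≃+* ℂ) {χ : X → ℂ} (hχ : IsCharacter X χ) :
    detOrder ((f : ℂ →+* ℂ) ∘ χ) = detOrder χ := by
  unfold detOrder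
  have h1 : detChar ((f : ℂ →+* ℂ) ∘ χ) = (f : ℂ →+* ℂ) ∘ detChar χ := by
    funext g
    exact detChar_comp_ringHom _ hχ g
  rw [h1]
  let F : (X → ℂ) →* (X → ℂ) := MonoidHom.compLeft (f : ℂ →+* ℂ).toMonoidHom X
  have hF : Function.Injective F := by
    intro a b h
    funext g
    exact f.injective (congrFun h g)
  exact orderOf_injective F hF _

/-- The determinantal order of a character divides the order of the group. -/
theorem detOrder_dvd_card {χ : X → ℂ} (hχ : IsCharacter X χ) : detOrder χ ∣ Nat.card X := by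
  unfold detOrder
  apply orderOf_dvd_of_pow_eq_one
  obtain ⟨lam, hlam⟩ := Cfsg.Agent.Lib.CharDeep.Det.detChar_of_isCharacter hχ
  rw [hlam]
  funext g
  have h1 : (lam g) ^ Nat.card X = 1 := by
    rw [← map_pow, pow_card_eq_one', map_one]
  have h2 := congrArg (fun u : ℂˣ => (u : ℂ)) h1
  simpa using h2

end RingHom

section Data

variable {Γ : Type u} [Group Γ] [Fintype Γ] {G S : Subgroup Γ}

theorem normal_of_sup (hnorm : ∀ s ∈ S, ∀ g ∈ G, s * g * s⁻¹ ∈ G) (htop : G ⊔ S = ⊤) : G.Normal := by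
  have h1 : G ≤ Subgroup.normalizer (G : Set Γ) := Subgroup.le_normalizer
  have h2 : S ≤ Subgroup.normalizer (G : Set Γ) := by
    intro s hs
    rw [Subgroup.mem_normalizer_iff]
    intro g
    constructor
    · exact hnorm s hs g
    · intro hg
      have := hnorm s⁻¹ (S.inv_mem hs) _ hg
      simpa [mul_assoc] using this
  have h3 : Subgroup.normalizer (G : Set Γ) = ⊤ := top_le_iff.mp (htop ▸ sup_le h1 h2)
  exact Subgroup.normalizer_eq_top_iff.mp h3

theorem card_eq_mul (hn : G.Normal) (hcop : (Nat.card G).Coprime (Nat.card S)) (htop : G ⊔ S = ⊤) :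
    Nat.card Γ = Nat.card G * Nat.card S := by
  have h1 := Cfsg.Agent.Lib.Coprime.SchurZassenhaus.card_sup_of_disjoint G S
    (Cfsg.Agent.Lib.Coprime.SchurZassenhaus.disjoint_of_coprime_card hcop.symm)
  rw [sup_comm, htop, Nat.card_congr (Subgroup.topEquiv.toEquiv)] at h1
  exact h1

theorem index_eq (hn : G.Normal) (hcop : (Nat.card G).Coprime (Nat.card S)) (htop : G ⊔ S = ⊤) :
    G.index = Nat.card S := by
  have h1 := card_eq_mul hn hcop htop
  have h2 := G.card_mul_index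
  rw [h1] at h2
  exact Nat.eq_of_mul_eq_mul_left Nat.card_pos h2

/-- Invariance under `S` gives invariance under `Γ`. -/
theorem inv_of_sup [Fintype G] (hn : G.Normal) (htop : G ⊔ S = ⊤) {χ : G → ℂ} (hχ : IsClassFunction G χ)
    (hinv : ∀ s ∈ S, ∀ g g' : G, (g' : Γ) = s * g * s⁻¹ → χ g' = χ g) (x : Γ) (n : G) :
    χ ⟨x * n * x⁻¹, hn.conj_mem n n.2 x⟩ = χ n := by
  have hx : x ∈ G ⊔ S := by rw [htop]; trivial
  have hx' : x ∈ ((G ⊔ S : Subgroup Γ) : Set Γ) := hx
  rw [Subgroup.normal_mul] at hx'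
  obtain ⟨a, ha, b, hb, rfl⟩ := Set.mem_mul.mp hx'
  have h1 : (⟨b * n * b⁻¹, hn.conj_mem n n.2 b⟩ : G) = ⟨b * n * b⁻¹, hn.conj_mem n n.2 b⟩ := rfl
  have h2 : χ ⟨b * n * b⁻¹, hn.conj_mem n n.2 b⟩ = χ n := hinv b hb n _ rfl
  have h3 := hχ ⟨b * n * b⁻¹, hn.conj_mem n n.2 b⟩ ⟨a, ha⟩
  rw [← h2, ← h3]
  congr 1
  apply Subtype.ext
  simp [mul_assoc]

/-- **Lemma A**: canonical extensions are invariant under power maps fixing `G`. -/
theorem canon_pow [Fintype G] (hn : G.Normal) (hcop : (Nat.card G).Coprime (Nat.card S))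
    (htop : G ⊔ S = ⊤) (χ : IrrCharacter G)
    (hinv : ∀ s ∈ S, ∀ g g' : G, (g' : Γ) = s * g * s⁻¹ → (χ : G → ℂ) g' = (χ : G → ℂ) g)
    (χh : IrrCharacter Γ) (hext : ∀ g : G, (χh : Γ → ℂ) g = (χ : G → ℂ) g)
    (hdet : (detOrder (χh : Γ → ℂ)).Coprime (Nat.card S)) {k : ℕ}
    (hk1 : k ≡ 1 [MOD Nat.card G]) (hk2 : k.Coprime (Nat.card S)) (x : Γ) :
    (χh : Γ → ℂ) (x ^ k) = (χh : Γ → ℂ) x := by
  classical
  have hcard := card_eq_mul hn hcop htop
  have hidx := index_eq hn hcop htop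
  have hkG : k.Coprime (Nat.card G) := by
    have h1 : Nat.gcd k (Nat.card G) = Nat.gcd 1 (Nat.card G) := hk1.gcd_eq
    simpa using h1
  have hkΓ : k.Coprime (Nat.card Γ) := by
    rw [hcard]
    exact Nat.Coprime.mul_right hkG hk2
  have hpowG : ∀ g : G, ((g : Γ)) ^ k = g := by
    intro g
    have h1 : (g : G) ^ k = g := by
      have h2 : (g : G) ^ k = g ^ 1 := (pow_eq_pow_iff_modEq).mpr
        (hk1.of_dvd (orderOf_dvd_natCard g))
      rwa [pow_one] at h2
    exact congrArg Subtype.val h1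
  obtain ⟨f, hf⟩ := Cfsg.Agent.Lib.OddChar.GaloisConj.exists_ringEquiv_pow (Nat.card Γ) k
    Nat.card_pos.ne' hkΓ
  have hχhc := isCharacter_of_isIrrCharacter χh.2
  have hψeq : (fun g => (χh : Γ → ℂ) (g ^ k)) = (f : ℂ →+* ℂ) ∘ (χh : Γ → ℂ) := by
    funext g
    exact (Cfsg.Agent.Lib.OddChar.GaloisConj.comp_character_eq (f := (f : ℂ →+* ℂ)) hf dvd_rfl hχhc g).symm
  have hψirr : IsIrrCharacter Γ (fun g => (χh : Γ → ℂ) (g ^ k)) :=
    Cfsg.Agent.Lib.OddChar.GaloisConj.isIrrCharacter_pow hkΓ χh.2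
  have hψdet : detOrder (fun g => (χh : Γ → ℂ) (g ^ k)) = detOrder (χh : Γ → ℂ) := by
    rw [hψeq]
    exact detOrder_comp_ringHom f hχhc
  have hcf : IsClassFunction G (χ : G → ℂ) := isClassFunction_of_isIrrCharacter χ.2
  obtain ⟨d, hd⟩ := exists_deg_of_isCharacter (isCharacter_of_isIrrCharacter χ.2)
  have hdvd : d ∣ Nat.card G := by
    obtain ⟨n, ρ, hρ, hχ⟩ := χ.2
    haveI : ρ.IsIrreducible := hρ
    have h1 := Cfsg.Agent.Lib.Char.Central.finrank_dvd_card (ρ := ρ)
    have h2 : ((finrank ℂ (Fin n → ℂ) : ℕ) : ℂ) = (d : ℂ) := by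
      rw [← hd, ← hχ]
      simp [Representation.character]
    have h3 : finrank ℂ (Fin n → ℂ) = d := by exact_mod_cast h2
    rwa [h3] at h1
  have hcopχ : Nat.Coprime G.index (detOrder (χ : G → ℂ) * d) := by
    rw [hidx]
    exact Nat.Coprime.mul_right
      (hcop.symm.coprime_dvd_right (detOrder_dvd_card (isCharacter_of_isIrrCharacter χ.2)))
      (hcop.symm.coprime_dvd_right hdvd)
  haveI := hn
  obtain ⟨χ₀, -, huniq⟩ := Cfsg.Agent.S0867.result G (χ : G → ℂ) χ.2
    (fun x n => inv_of_sup hn htop hcf hinv x n) d hd hcopχ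
  have h1 := huniq (χh : Γ → ℂ) χh.2 hext (by rw [hidx]; exact hdet.symm)
  have h2 := huniq (fun g => (χh : Γ → ℂ) (g ^ k)) hψirr
    (fun g => by
      show (χh : Γ → ℂ) ((g : Γ) ^ k) = _
      rw [hpowG, hext]) (by rw [hidx, hψdet]; exact hdet.symm)
  have h3 := congrFun (h2.trans h1.symm) x
  exact h3

end Data

end Cfsg.Agent.Lib.Glauberman.Canonical
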